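import Cfsg.Agent.Lib.LyRep.Image
import Cfsg.Agent.Lib.LyTwo.Cert.Mats0
import Mathlib.GroupTheory.GroupAction.Quotient
import Mathlib.GroupTheory.Coset.Card

/-!
Tools for a lower bound of the 3-part of the image of the presented Lyons group: products of checked words and
the orbit of a vector under a subgroup.
-/
set_option autoImplicit false
set_option maxRecDepth 100000

namespace CfsgLib.LyRep.Three

open CfsgLib.LyTwo Matrix
open scoped Pointwise

/-- units of the matrices of degree 111 -/
abbrev GLy := (Matrix (Fin 111) (Fin 111) (ZMod 5))ˣ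

/-- a matrix of the image -/
def InImg (L : List ℕ) : Prop :=
  ∃ u ∈ imgGroup, (u : Matrix (Fin 111) (Fin 111) (ZMod 5)) = mat 111 111 L

theorem InImg.mul {A B C : List ℕ} (hA : InImg A) (hB : InImg B) (h : mulCheck 111 111 A B C = true) : InImg C := by
  obtain ⟨a, ha, ha'⟩ := hA
  obtain ⟨b, hb, hb'⟩ := hB
  exact ⟨a * b, mul_mem ha hb, by rw [Units.val_mul, ha', hb', mulCheck_spec le_rfl h]⟩

theorem InImg.word (w : List (Cfsg.Spor.Ly.Gen × Bool)) {S Si : List ℕ}
    (h : wordCheck 111 (w.map Cert.letterMat ++ [Si]) = true)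
    (hi : mulCheck 111 111 Si S CfsgLib.LyTwo.Cert.m0 = true) : InImg S := by
  have h1 := wordCheck_spec le_rfl h
  rw [List.map_append, List.prod_append, List.map_singleton, List.prod_singleton, List.map_map] at h1
  have h2 : mat 111 111 Si * mat 111 111 S = 1 := (mulCheck_spec le_rfl hi).trans mat_m0
  have h3 : (w.map fun x => mat 111 111 (Cert.letterMat x)).prod = mat 111 111 S := by
    calc (w.map fun x => mat 111 111 (Cert.letterMat x)).prod
        = (w.map fun x => mat 111 111 (Cert.letterMat x)).prod * (mat 111 111 Si * mat 111 111 S) := by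
          rw [h2, mul_one]
      _ = _ := by rw [← mul_assoc, show (w.map fun x => mat 111 111 (Cert.letterMat x)).prod *
          mat 111 111 Si = 1 from h1, one_mul]
  have hS : mat 111 111 S * mat 111 111 Si = 1 := by
    rw [← h3]
    exact h1
  exact ⟨⟨mat 111 111 S, mat 111 111 Si, hS, h2⟩, mem_of_word _ w h3.symm, rfl⟩

/-- the subgroup generated by listed matrices -/
def grp (l : List (List ℕ)) : Subgroup GLy :=
  Subgroup.closure {u : GLy | ∃ g ∈ l, (u : Matrix (Fin 111) (Fin 111) (ZMod 5)) = mat 111 111 g}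

theorem grp_le {l : List (List ℕ)} (h : ∀ g ∈ l, InImg g) : grp l ≤ imgGroup := by
  refine (Subgroup.closure_le _).mpr ?_
  rintro u ⟨g, hg, hu⟩
  obtain ⟨w, hw, hw'⟩ := h g hg
  rwa [show u = w from Units.ext (hu.trans hw'.symm)]

/-- the check of one orbit: products, permutations of the columns, distinct columns, transitivity, fixing generators -/
noncomputable def levelOk (m : ℕ) (V : List ℕ) (G : List (List ℕ × List ℕ × List ℕ)) (tree : List (ℕ × ℕ))
    (T : List (List ℕ)) : Bool :=
  Nat.blt 0 m &&
  G.all (fun p => mulCheck 111 m p.1 V p.2.1 && (List.range m).all fun l => Nat.blt (p.2.2.getD l m) m &&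
    (List.range 111).all fun i => Nat.beq (ent p.2.1 i l % 5) (ent V i (p.2.2.getD l m) % 5)) &&
  (List.range m).all (fun l => (List.range l).all fun k =>
    (List.range 111).any fun i => !(Nat.beq (ent V i l % 5) (ent V i k % 5))) &&
  Nat.beq (tree.length + 1) m &&
  (List.range tree.length).all (fun k => Nat.blt (tree.getD k (0, 0)).1 G.length &&
    Nat.ble (tree.getD k (0, 0)).2 k &&
    Nat.beq ((G.getD (tree.getD k (0, 0)).1 ([], [], [])).2.2.getD (tree.getD k (0, 0)).2 m) (k + 1)) &&
  T.all (fun t => G.any fun p => decide (p.1 = t) && Nat.beq (p.2.2.getD 0 m) 0)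

/-- the action on vectors -/
@[reducible] def vecAction : MulAction GLy (Fin 111 → ZMod 5) where
  smul u v := (u : Matrix (Fin 111) (Fin 111) (ZMod 5)).mulVec v
  one_smul v := Matrix.one_mulVec v
  mul_smul u w v := (Matrix.mulVec_mulVec v _ _).symm

attribute [local instance] vecAction

theorem level_spec {m : ℕ} {V : List ℕ} {G : List (List ℕ × List ℕ × List ℕ)} {tree : List (ℕ × ℕ)}
    {T : List (List ℕ)} (h : levelOk m V G tree T = true) (hG : ∀ p ∈ G, InImg p.1) :
    m * Nat.card (grp T) ∣ Nat.card (grp (G.map Prod.fst)) := by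
  simp only [levelOk, Bool.and_eq_true, List.all_eq_true, List.mem_range, Nat.blt_eq, Nat.ble_eq,
    List.any_eq_true, decide_eq_true_eq, Bool.not_eq_true'] at h
  obtain ⟨⟨⟨⟨⟨hm, hperm⟩, hdist⟩, htree⟩, hstep⟩, hfix⟩ := h
  replace htree : tree.length + 1 = m := Nat.eq_of_beq_eq_true htree
  let col : Fin m → (Fin 111 → ZMod 5) := fun l i => mat 111 m V i l
  have hcast : ∀ a b : ℕ, ((a : ZMod 5) = (b : ZMod 5)) ↔ a % 5 = b % 5 := fun a b =>
    ZMod.natCast_eq_natCast_iff' a b 5
  have hinj : Function.Injective col := by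
    have key : ∀ l k : Fin m, (k : ℕ) < l → col l ≠ col k := by
      intro l k hkl he
      obtain ⟨i, hi, hne⟩ := hdist l l.2 k hkl
      have h1 : ((ent V i l : ℕ) : ZMod 5) = (ent V i k : ℕ) := congrFun he ⟨i, hi⟩
      rw [hcast] at h1
      have h2 : Nat.beq (ent V i l % 5) (ent V i k % 5) = true := by
        rw [h1]
        exact Nat.beq_refl _
      rw [h2] at hne
      exact Bool.noConfusion hne
    intro l k he
    rcases lt_trichotomy (k : ℕ) l with hlt | heq | hgt
    · exact absurd he (key l k hlt)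
    · exact Fin.ext heq.symm
    · exact absurd he.symm (key k l hgt)
  have hact : ∀ p ∈ G, ∀ u : GLy, (u : Matrix (Fin 111) (Fin 111) (ZMod 5)) = mat 111 111 p.1 →
      ∀ l : Fin m, ∃ hlt : p.2.2.getD l m < m, u • col l = col ⟨p.2.2.getD l m, hlt⟩ := by
    intro p hp u hu l
    obtain ⟨hmul, hl⟩ := hperm p hp
    obtain ⟨hlt, heq⟩ := hl l l.2
    refine ⟨hlt, funext fun i => ?_⟩
    have hC := congrFun (congrFun (mulCheck_spec le_rfl hmul) i) l
    rw [← hu] at hC
    refine hC.trans ?_
    exact (hcast _ _).mpr (Nat.eq_of_beq_eq_true (heq i i.2))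
  set K := grp (G.map Prod.fst) with hK
  set o : Fin m := ⟨0, hm⟩ with ho
  have hrange : ∀ u ∈ K, u • Set.range col = Set.range col := by
    intro u hu
    suffices K ≤ MulAction.stabilizer GLy (Set.range col) from this hu
    refine (Subgroup.closure_le _).mpr ?_
    rintro x ⟨g, hg, hx⟩
    obtain ⟨p, hp, rfl⟩ := List.mem_map.mp hg
    have h1 : (fun v : Fin 111 → ZMod 5 => x • v) '' Set.range col = Set.range col := by
      have hsub : (fun v : Fin 111 → ZMod 5 => x • v) '' Set.range col ⊆ Set.range col := by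
        rintro _ ⟨_, ⟨l, rfl⟩, rfl⟩
        obtain ⟨hlt, he⟩ := hact p hp x hx l
        exact ⟨_, he.symm⟩
      have hcard : ((fun v : Fin 111 → ZMod 5 => x • v) '' Set.range col).ncard = (Set.range col).ncard :=
        Set.ncard_image_of_injective (Set.range col) (fun v w hvw => smul_left_cancel x hvw)
      exact Set.eq_of_subset_of_ncard_le hsub (le_of_eq hcard.symm) (Set.finite_range col)
    exact MulAction.mem_stabilizer_iff.mpr h1
  have hreach : ∀ l (hl : l < m), col ⟨l, hl⟩ ∈ MulAction.orbit K (col o) := by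
    intro l
    induction l using Nat.strong_induction_on with
    | _ l ih =>
      intro hl
      cases l with
      | zero => exact MulAction.mem_orbit_self _
      | succ k =>
        have hk : k < tree.length := by omega
        obtain ⟨⟨hj, hle⟩, heq⟩ := hstep k hk
        generalize tree.getD k (0, 0) = e at hj hle heq
        rw [List.getD_eq_getElem _ _ hj] at heq
        have hp : G[e.1] ∈ G := List.getElem_mem hj
        generalize G[e.1] = p at heq hp
        obtain ⟨u, -, hu⟩ := hG p hp
        have huK : u ∈ K := Subgroup.subset_closure ⟨p.1, List.mem_map_of_mem hp, hu⟩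
        obtain ⟨hlt, he⟩ := hact p hp u hu ⟨e.2, by omega⟩
        obtain ⟨c, hc⟩ := ih e.2 (by omega) (by omega)
        refine ⟨⟨u, huK⟩ * c, ?_⟩
        have hc' : c • col o = col ⟨e.2, by omega⟩ := hc
        show (⟨u, huK⟩ * c : K) • col o = _
        rw [mul_smul, hc']
        exact he.trans (congrArg col (Fin.ext (Nat.eq_of_beq_eq_true heq)))
  have horb : MulAction.orbit K (col o) = Set.range col := by
    refine Set.Subset.antisymm ?_ ?_
    · rintro _ ⟨c, rfl⟩
      rw [← hrange c c.2]
      exact ⟨col o, ⟨o, rfl⟩, rfl⟩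
    · rintro _ ⟨l, rfl⟩
      exact hreach l l.2
  have hT : (grp T).subgroupOf K ≤ MulAction.stabilizer K (col o) ∧ grp T ≤ K := by
    have hTK : grp T ≤ K ⊓ MulAction.stabilizer GLy (col o) := by
      refine (Subgroup.closure_le _).mpr ?_
      rintro x ⟨t, ht, hx⟩
      obtain ⟨p, hp, hpt, h0⟩ := hfix t ht
      subst hpt
      refine ⟨Subgroup.subset_closure ⟨p.1, List.mem_map_of_mem hp, hx⟩, MulAction.mem_stabilizer_iff.mpr ?_⟩
      obtain ⟨hlt, he⟩ := hact p hp x hx o
      exact he.trans (congrArg col (Fin.ext (Nat.eq_of_beq_eq_true h0)))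
    exact ⟨fun x hx => MulAction.mem_stabilizer_iff.mpr (hTK hx).2, fun x hx => (hTK hx).1⟩
  have e1 : Nat.card (MulAction.orbit K (col o)) = m := by
    rw [horb, ← Nat.card_congr (Equiv.ofInjective col hinj), Nat.card_fin]
  rw [Nat.card_congr (Subgroup.subgroupOfEquivOfLe hT.2).symm.toEquiv]
  calc m * Nat.card ((grp T).subgroupOf K)
      ∣ m * Nat.card (MulAction.stabilizer K (col o)) := Nat.mul_dvd_mul_left _ (Subgroup.card_dvd_of_le hT.1)
    _ = Nat.card K := by
      rw [← e1, Nat.card_congr (MulAction.orbitEquivQuotientStabilizer K (col o))]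
      exact (Subgroup.card_eq_card_quotient_mul_card_subgroup _).symm

end CfsgLib.LyRep.Three
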